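import Groth.Agent.SerreDual.ProjDualAll
import Groth.Agent.CAlgH3.PSheafGen
import Groth.Agent.Coherent.CohBC.HomCorep
import Groth.Agent.Coherent.Existence.FullFaithful
import Groth.Agent.Coherent.Serre.Vanishing
import Groth.Agent.CurveRR24.Vanish

/-!
# Retracts and twists on projective space over a field
-/

set_option autoImplicit false
set_option linter.style.haveILetI false
set_option backward.isDefEq.respectTransparency.types false

universe u

open CategoryTheory CategoryTheory.Limits AlgebraicGeometry Opposite TopologicalSpace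
open Groth.Agent.Coherent Groth.Agent.EulerLib
open Groth.Agent.PicLib (resM_self)

namespace Groth.Agent.SplitP

variable {K : Type u} [Field K] {d : ℕ}

local notation "ℙ" => CohB1.ProjSpace d K
local notation "O'(" n ")" => Twist.twistProjSpace d K n

/-- `F(n)`. -/
noncomputable abbrev tw (F : (ℙ).Modules) (n : ℤ) : (ℙ).Modules :=
  (SerreDual.twistF (O'(n))).obj F

theorem nonempty_tw_tw (F : (ℙ).Modules) {a b c : ℤ} (h : a + b = c) : Nonempty (tw (tw F a) b ≅ tw F c) := by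
  obtain ⟨e⟩ := SerreDual.nonempty_twist_tensor d K h
  exact ⟨(CohBC.assocMod F (O'(a)) (O'(b))).symm ≪≫ AmpleLib.tensorIso (Iso.refl F) e⟩

theorem nonempty_tw_zero (F : (ℙ).Modules) : Nonempty (tw F 0 ≅ F) := by
  obtain ⟨z⟩ := TwistLib.nonempty_twist_zero_iso (𝒜 := CohB1.polyGrading d K)
  exact ⟨AmpleLib.tensorIso (Iso.refl F) z ≪≫ AmpleLib.tensorComm F (Coh.structureModule ℙ) ≪≫
    AmpleLib.unitTensorIso F⟩

theorem nonempty_tw_twist {a b c : ℤ} (h : a + b = c) : Nonempty (tw (O'(a)) b ≅ O'(c)) :=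
  SerreDual.nonempty_twist_tensor d K h

theorem isCoh_tw {F : (ℙ).Modules} (hF : Coh.IsCoh F) (n : ℤ) : Coh.IsCoh (tw F n) :=
  CAlgH3.PSheafGen.isCoh_twistProj hF n

theorem isEquivalence_tw (n : ℤ) : (SerreDual.twistF (O'(n))).IsEquivalence := by
  obtain ⟨a⟩ := SerreDual.nonempty_twist_tensor d K (neg_add_cancel n)
  obtain ⟨z⟩ := TwistLib.nonempty_twist_zero_iso (𝒜 := CohB1.polyGrading d K)
  exact SerreDual.isEquivalence_twistF (SerreDual.isInvertible_twist d K (-n)) (SerreDual.isInvertible_twist d K n)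
    (a ≪≫ z)

theorem subsingleton_HH_retract {G F : (ℙ).Modules} (j : G ⟶ F) (q : F ⟶ G) (h : j ≫ q = 𝟙 G) (i : ℕ)
    (hF : Subsingleton (Coh.HH ℙ F i)) : Subsingleton (Coh.HH ℙ G i) := by
  refine subsingleton_of_forall_eq 0 fun x => ?_
  have h1 : SerreDual.hmap K q i (SerreDual.hmap K j i x) = x := by
    rw [← LinearMap.comp_apply, ← SerreDual.hmap_comp, h, SerreDual.hmap_id]; rfl
  rw [← h1, Subsingleton.elim (SerreDual.hmap K j i x) 0, map_zero]

theorem subsingleton_HH_tw_retract {G F : (ℙ).Modules} (j : G ⟶ F) (q : F ⟶ G) (h : j ≫ q = 𝟙 G) (n : ℤ) (i : ℕ)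
    (hF : Subsingleton (Coh.HH ℙ (tw F n) i)) : Subsingleton (Coh.HH ℙ (tw G n) i) :=
  subsingleton_HH_retract ((SerreDual.twistF _).map j) ((SerreDual.twistF _).map q)
    (by rw [← Functor.map_comp, h, CategoryTheory.Functor.map_id]) i hF

theorem isRegular_of_vanishing {F : (ℙ).Modules} {m : ℤ}
    (hmid : ∀ (n : ℤ) (i : ℕ), 1 ≤ i → i < d → Subsingleton (Coh.HH ℙ (tw F n) i))
    (htop : Subsingleton (Coh.HH ℙ (tw F (m - d)) d)) : Curv2.IsMRegular K d F m := fun i h1 h2 => by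
  rcases lt_or_eq_of_le h2 with h | rfl
  · exact hmid _ i h1 h
  · exact htop

theorem globallyGenerated_tw {F : (ℙ).Modules} (hF : Coh.IsCoh F) {m : ℤ} (h : Curv2.IsMRegular K d F m) :
    Curv2.IsGloballyGenerated (tw F m) :=
  CAlgH3.PSheafGen.isGloballyGenerated hF.1 h (CAlgH3.PSheafGen.isCoh_twistProj hF m)

theorem exists_free_epi {X : Scheme.{u}} {M : X.Modules} (hg : Curv2.IsGloballyGenerated M) :
    ∃ (ι : Type u) (p : freeMod X ι ⟶ M), Epi p :=
  let ⟨ι, p, hp⟩ := hg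
  ⟨ι, p, hp⟩

theorem isZero_of_no_sections {M : (ℙ).Modules} (hg : Curv2.IsGloballyGenerated M)
    (h : Subsingleton (Coh.HH ℙ M 0)) : IsZero M := by
  obtain ⟨ι, p, hp⟩ := exists_free_epi hg
  have hp0 : p = 0 := freeMod_hom_ext fun a => by
    refine Eq.trans ?_ comp_zero.symm
    refine CurveRR24.hom_ext_one _ _ fun V => ?_
    haveI : Subsingleton Γ(M, (⊤ : (ℙ).Opens)) := (Coherent.Existence.hSec M).symm.toEquiv.subsingleton
    show unitVal (freeInj a ≫ p) V = _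
    rw [← resM_unitVal (freeInj a ≫ p) (le_top : V ≤ ⊤), Subsingleton.elim (unitVal (freeInj a ≫ p) ⊤) 0, map_zero]
    rfl
  rw [IsZero.iff_id_eq_zero]
  exact (cancel_epi p).1 (by rw [hp0, zero_comp, zero_comp])

theorem exists_top_vanishing {F : (ℙ).Modules} (hF : Coh.IsCoh F) (hd : 1 ≤ d) :
    ∃ N : ℤ, Subsingleton (Coh.HH ℙ (tw F N) d) := by
  haveI : IsProper ((ℙ) ↘ Spec (CommRingCat.of K)) := isProper_projSpace_toSpec d K
  obtain ⟨n₀, hn₀⟩ := Coherent.Serre.exists_subsingleton_HH_twist (A := K) (SerreDual.isAmple_projSpace_one d K) F hF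
  obtain ⟨e⟩ := TwistLib.G.nonempty_twist_pow_iso (𝒜 := CohB1.polyGrading d K) CAlgH3.PSheafGen.covers n₀
  haveI : Subsingleton (Coh.HH ℙ (CohB1.tensorMod F
    (CohB1.tensorPow (GrTwist.twist (CohB1.polyGrading d K) 1) n₀)) d) := hn₀ n₀ le_rfl d hd
  let E : tw F (n₀ : ℤ) ≅ CohB1.tensorMod F (CohB1.tensorPow (GrTwist.twist (CohB1.polyGrading d K) 1) n₀) :=
    AmpleLib.tensorIso (Iso.refl F) ((CAlgH3.PRing.twistCompare (n₀ : ℤ)).symm ≪≫ e)
  exact ⟨n₀, subsingleton_HH_retract E.hom E.inv E.hom_inv_id d inferInstance⟩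

theorem exists_minimal {F : (ℙ).Modules} (hF : Coh.IsCoh F) (hd : 1 ≤ d) {n₀ : ℤ}
    (hlow : ∀ n ≤ n₀, Subsingleton (Coh.HH ℙ (tw F n) 0))
    (hmid : ∀ (n : ℤ) (i : ℕ), 1 ≤ i → i < d → Subsingleton (Coh.HH ℙ (tw F n) i)) (hne : ¬ IsZero F) :
    ∃ m : ℤ, Subsingleton (Coh.HH ℙ (tw F (m - d)) d) ∧ ¬ Subsingleton (Coh.HH ℙ (tw F (m - d - 1)) d) := by
  by_contra hcon
  obtain ⟨N, hN⟩ := exists_top_vanishing hF hd
  have hall : ∀ j : ℕ, Subsingleton (Coh.HH ℙ (tw F (N - j)) d) := fun j => by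
    induction j with
    | zero => rwa [Nat.cast_zero, sub_zero]
    | succ j ih =>
      by_contra h
      refine hcon ⟨N - j + d, ?_, ?_⟩
      · rwa [show N - (j : ℤ) + d - d = N - j by ring]
      · rwa [show N - (j : ℤ) + d - d - 1 = N - ((j + 1 : ℕ) : ℤ) by push_cast; ring]
  obtain ⟨j, hj⟩ : ∃ j : ℕ, N - j + d ≤ n₀ := ⟨(N + d - n₀).toNat, by omega⟩
  have hreg : Curv2.IsMRegular K d F (N - j + d) := isRegular_of_vanishing hmid (by
    rw [show N - (j : ℤ) + d - d = N - j by ring]; exact hall j)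
  have h0 : IsZero (tw F (N - j + d)) := isZero_of_no_sections (globallyGenerated_tw hF hreg) (hlow _ hj)
  haveI := isEquivalence_tw (K := K) (d := d) (N - j + d)
  refine hne ((IsZero.iff_id_eq_zero F).2 ((SerreDual.twistF (O'(N - j + d))).map_injective ?_))
  exact h0.eq_of_src _ _

theorem comp_eq_id_of_unitVal {X : Scheme.{u}} (f g : Coh.structureModule X ⟶ Coh.structureModule X)
    (r s : Γ(X, ⊤)) (hf : unitVal f ⊤ = r) (hg : unitVal g ⊤ = s) (h : r * s = 1) : f ≫ g = 𝟙 _ := by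
  refine CurveRR24.hom_ext_one _ _ fun V => ?_
  show g.app V (unitVal f V) = (1 : Γ(X, V))
  rw [← resM_unitVal f (le_top : V ≤ ⊤), hf]
  refine (app_resM g _ _).trans ?_
  rw [app_unit g r, hg]
  show X.presheaf.map (homOfLE (le_top : V ≤ ⊤)).op (r * s) = 1
  rw [h, map_one]

theorem eq_zero_of_unitVal {X : Scheme.{u}} (f : Coh.structureModule X ⟶ Coh.structureModule X)
    (hf : unitVal f ⊤ = 0) : f = 0 := by
  refine CurveRR24.hom_ext_one _ _ fun V => ?_
  show unitVal f V = _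
  rw [← resM_unitVal f (le_top : V ≤ ⊤), hf]
  exact map_zero _

theorem isIso_endo_of_isField {X : Scheme.{u}} (hX : IsField Γ(X, ⊤))
    {f : Coh.structureModule X ⟶ Coh.structureModule X} (hf : f ≠ 0) : IsIso f := by
  obtain ⟨r, hr⟩ : ∃ r : Γ(X, ⊤), unitVal f ⊤ = r := ⟨_, rfl⟩
  have hr0 : r ≠ 0 := fun h => hf (eq_zero_of_unitVal f (hr.trans h))
  obtain ⟨s, hs⟩ := hX.mul_inv_cancel hr0
  have hg : unitVal (unitDesc (Coh.structureModule X) s) ⊤ = s := (unitVal_unitDesc (Coh.structureModule X) s ⊤).trans (resM_self (Coh.structureModule X) _ _)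
  have h1 := comp_eq_id_of_unitVal f (unitDesc (Coh.structureModule X) s) r s hr hg hs
  have h2 := comp_eq_id_of_unitVal (unitDesc (Coh.structureModule X) s) f s r hg hr ((mul_comm s r).trans hs)
  exact IsIso.mk ⟨unitDesc (Coh.structureModule X) s, h1, h2⟩

theorem isIso_endo_unit {f : Coh.structureModule ℙ ⟶ Coh.structureModule ℙ} (hf : f ≠ 0) : IsIso f := by
  haveI := CurveLib.isIntegral_projSpace K d
  haveI : IsProper ((ℙ) ↘ Spec (CommRingCat.of K)) := isProper_projSpace_toSpec d K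
  exact isIso_endo_of_isField (isField_of_universallyClosed (K := K) ((ℙ) ↘ Spec (CommRingCat.of K))) hf

/-- A twist of the structure sheaf splits off at the regularity. -/
theorem exists_retract {F : (ℙ).Modules} (hF : Coh.IsCoh F) {m : ℤ}
    (hmid : ∀ (n : ℤ) (i : ℕ), 1 ≤ i → i < d → Subsingleton (Coh.HH ℙ (tw F n) i))
    (htop : Subsingleton (Coh.HH ℙ (tw F (m - d)) d))
    (hne : ¬ Subsingleton (Coh.HH ℙ (tw F (m - d - 1)) d)) :
    ∃ (j : O'(-m) ⟶ F) (q : F ⟶ O'(-m)), j ≫ q = 𝟙 _ := by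
  obtain ⟨t, ht⟩ := SerreDual.exists_trace (n := d) (k := K)
  have hG := isCoh_tw hF (m - d - 1)
  have hrep := SerreDual.rep_coh t ht hG
  obtain ⟨ψ, hψ⟩ : ∃ ψ : Module.Dual K (Coh.HH ℙ (tw F (m - d - 1)) d), ψ ≠ 0 := by
    by_contra h
    simp only [not_exists, not_not] at h
    exact hne ((Module.subsingleton_dual_iff K).1 (subsingleton_of_forall_eq 0 h))
  obtain ⟨φ, hφ⟩ := hrep.2 ψ
  have hφ0 : φ ≠ 0 := fun h => hψ (by rw [← hφ, h, map_zero])
  haveI := isEquivalence_tw (K := K) (d := d) ((d : ℤ) + 1)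
  obtain ⟨e₁⟩ := nonempty_tw_tw F (show m - d - 1 + ((d : ℤ) + 1) = m by ring)
  obtain ⟨e₂⟩ := nonempty_tw_twist (K := K) (d := d) (show -((d : ℤ) + 1) + ((d : ℤ) + 1) = 0 by ring)
  obtain ⟨z⟩ : Nonempty (O'(0) ≅ Coh.structureModule ℙ) := TwistLib.nonempty_twist_zero_iso (𝒜 := CohB1.polyGrading d K)
  let Φ : tw F m ⟶ Coh.structureModule ℙ :=
    e₁.inv ≫ (SerreDual.twistF (O'((d : ℤ) + 1))).map φ ≫ e₂.hom ≫ z.hom
  have hΦ : Φ ≠ 0 := fun h => hφ0 ((SerreDual.twistF (O'((d : ℤ) + 1))).map_injective (by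
    have h' : (SerreDual.twistF (O'((d : ℤ) + 1))).map φ = e₁.hom ≫ Φ ≫ z.inv ≫ e₂.inv := by simp [Φ]
    rw [h', h, zero_comp, comp_zero, Functor.map_zero]))
  obtain ⟨ι, p, hp⟩ := exists_free_epi (globallyGenerated_tw hF (isRegular_of_vanishing hmid htop))
  obtain ⟨a, ha⟩ : ∃ a, freeInj a ≫ p ≫ Φ ≠ 0 := by
    by_contra h
    simp only [not_exists, not_not] at h
    exact hΦ ((cancel_epi p).1 ((freeMod_hom_ext fun a => by rw [comp_zero, h a] :
      p ≫ Φ = 0).trans comp_zero.symm))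
  haveI := isIso_endo_unit ha
  let i₀ : Coh.structureModule ℙ ⟶ tw F m := freeInj a ≫ p
  let p₀ : tw F m ⟶ Coh.structureModule ℙ := Φ ≫ inv (freeInj a ≫ p ≫ Φ)
  have h₀ : i₀ ≫ p₀ = 𝟙 _ := by
    show (freeInj a ≫ p) ≫ Φ ≫ inv (freeInj a ≫ p ≫ Φ) = 𝟙 _
    have h := IsIso.hom_inv_id (freeInj a ≫ p ≫ Φ)
    rw [Category.assoc, Category.assoc] at h
    rw [Category.assoc]
    exact h
  obtain ⟨e₃⟩ := nonempty_tw_tw F (show m + -m = 0 by ring)
  obtain ⟨e₄⟩ := nonempty_tw_zero F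
  let u : tw (Coh.structureModule ℙ) (-m) ≅ O'(-m) := AmpleLib.unitTensorIso _
  refine ⟨u.inv ≫ (SerreDual.twistF _).map i₀ ≫ e₃.hom ≫ e₄.hom,
    e₄.inv ≫ e₃.inv ≫ (SerreDual.twistF _).map p₀ ≫ u.hom, ?_⟩
  simp only [Category.assoc, Iso.hom_inv_id_assoc]
  rw [← Functor.map_comp_assoc, h₀, CategoryTheory.Functor.map_id, Category.id_comp, Iso.inv_hom_id]

end Groth.Agent.SplitP
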