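import Groth.Agent.SplitP.Main
import Groth.Agent.SplitP1.Split
import Groth.Agent.VarietyLib.DegBasic
import Groth.Agent.SerreDual.RegularVanishing
import Groth.Agent.SerreDual.ProjRegular
import Groth.Agent.CurveLib.ProjLine

/-!
# Applications of the splitting criterion
-/

set_option autoImplicit false
set_option linter.style.haveILetI false
set_option backward.isDefEq.respectTransparency.types false

universe u

open CategoryTheory CategoryTheory.Limits AlgebraicGeometry Opposite TopologicalSpace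
open Groth.Agent.Coherent Groth.Agent.EulerLib

namespace Groth.Agent.SplitP

variable {K : Type u} [Field K] {d : ℕ}

local notation "ℙ" => CohB1.ProjSpace d K
local notation "O'(" n ")" => Twist.twistProjSpace d K n

attribute [local instance] hasFiniteBiproducts in
/-- A rank `r` module which is a sum of twists is a sum of `r` twists. -/
theorem card_eq_rank {r s : ℕ} {E : (ℙ).Modules} (hE : FlatMod.IsFinLocFreeOfRank r E) (a : Fin s → ℤ)
    (e : E ≅ ⨁ fun j => O'(a j)) (x : ℙ) : s = r := by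
  let G := DerSch.stalkFunctor ℙ x
  haveI : G.Additive := inferInstance
  let i : G.obj E ≅ ModuleCat.of ((ℙ).presheaf.stalk x) (∀ j : Fin s, G.obj (O'(a j))) :=
    G.mapIso e ≪≫ G.mapBiproduct _ ≪≫ ModuleCat.biproductIsoPi _
  have hb : ∀ j : Fin s, Nonempty (Module.Basis (Fin 1) ((ℙ).presheaf.stalk x) (G.obj (O'(a j)))) := fun j =>
    SplitP1.nonempty_basis_stalk (PicLib.isFinLocFreeOfRank_one (SerreDual.isInvertible_twist d K (a j))) x
  let b := fun j => (hb j).some
  have h := i.toLinearEquiv.finrank_eq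
  rw [show Module.finrank ((ℙ).presheaf.stalk x) (G.obj E) = r from VarietyLib.finrank_stalk_of_rank hE x,
    Module.finrank_eq_card_basis (Pi.basis b)] at h
  simpa using h.symm

theorem exists_vanishing_zero (hd : 1 ≤ d) {F : (ℙ).Modules} (hF : Coh.IsCoh F) (hloc : FlatMod.IsFinLocFree F) :
    ∃ n₀ : ℤ, ∀ n ≤ n₀, Subsingleton (Coh.HH ℙ (tw F n) 0) := by
  haveI := CurveLib.isIntegral_projSpace K d
  haveI : ConnectedSpace ↥(ℙ) := inferInstance
  obtain ⟨q, hq⟩ := (SerreDual.isFinLocFree_iff_vanishing_of_regular (k := K) (𝟙 ℙ) (Category.id_comp _)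
    (SerreDual.isRegularLocalRing_stalk_projSpace d K) (DimLib.PN.topologicalKrullDim_projSpace d K) hF).1 hloc 0 hd
  refine ⟨-(q : ℤ), fun n hn => ?_⟩
  obtain ⟨m, rfl⟩ : ∃ m : ℕ, n = -(m : ℤ) := ⟨n.natAbs, by omega⟩
  haveI := hq m (by omega)
  let E : tw F (-(m : ℤ)) ≅ CohB1.tensorMod F ((Scheme.Modules.pullback (𝟙 ℙ)).obj (O'(-(m : ℤ)))) :=
    AmpleLib.tensorIso (Iso.refl F) ((Scheme.Modules.pullbackId ℙ).app _).symm
  exact subsingleton_HH_retract E.hom E.inv E.hom_inv_id 0 inferInstance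

attribute [local instance] hasFiniteBiproducts in
theorem subsingleton_HH_tw_sum {r : ℕ} (a : Fin r → ℤ) {F : (ℙ).Modules} (e : F ≅ ⨁ fun j => O'(a j)) (n : ℤ)
    (i : ℕ) (h : ∀ j, Subsingleton (Coh.HH ℙ (O'(a j + n)) i)) : Subsingleton (Coh.HH ℙ (tw F n) i) := by
  let T := SerreDual.twistF (O'(n))
  let f : tw F n ≅ ⨁ fun j => T.obj (O'(a j)) := T.mapIso e ≪≫ T.mapBiproduct _
  refine subsingleton_HH_retract f.hom f.inv f.hom_inv_id i
    (SerreDual.subsingleton_HH_biproduct (k := K) i fun j => ?_)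
  obtain ⟨c⟩ := nonempty_tw_twist (K := K) (d := d) (rfl : a j + n = a j + n)
  exact subsingleton_HH_retract c.hom c.inv c.hom_inv_id i (h j)

theorem split_of_ext_h1 (hd : 2 ≤ d) (a b : ℤ) (S : ShortComplex (ℙ).Modules) (hS : S.ShortExact)
    (ea : S.X₁ ≅ O'(a)) (eb : S.X₃ ≅ O'(b)) : Nonempty S.Splitting := by
  haveI : HasExt.{u} (ℙ).Modules :=
    haveI : IsGrothendieckAbelian.{u} (ℙ).Modules := DCat.schemeModules_isGrothendieckAbelian ℙ
    inferInstance
  obtain ⟨c⟩ := SerreDual.nonempty_twist_tensor d K (show b + -b = 0 by ring)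
  obtain ⟨z⟩ := TwistLib.nonempty_twist_zero_iso (𝒜 := CohB1.polyGrading d K)
  obtain ⟨f⟩ := nonempty_tw_twist (K := K) (d := d) (rfl : a + -b = a + -b)
  haveI : Subsingleton (Abelian.Ext (O'(b)) (O'(a)) 1) :=
    SerreDual.subsingleton_ext_of_invertible (SerreDual.isInvertible_twist d K b) (SerreDual.isInvertible_twist d K (-b))
      (c ≪≫ z) _ 1 (subsingleton_HH_retract f.hom f.inv f.hom_inv_id 1
        (subsingleton_HH_twist (n := d) (R := K) (d := a + -b) 1 (fun h => by omega) (fun h => by omega)))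
  have h0 : hS.extClass = 0 := by
    have h1 : (Abelian.Ext.mk₀ eb.inv).comp (hS.extClass.comp (Abelian.Ext.mk₀ ea.hom) (add_zero 1)) (zero_add 1) = 0 :=
      Subsingleton.elim _ _
    have h2 := congrArg (fun z => (Abelian.Ext.mk₀ eb.hom).comp (z.comp (Abelian.Ext.mk₀ ea.inv) (add_zero 1)) (zero_add 1)) h1
    simpa using h2
  obtain ⟨y, hy⟩ := Abelian.Ext.covariant_sequence_exact₃ S.X₃ hS (Abelian.Ext.mk₀ (𝟙 S.X₃)) rfl
    (by rw [h0, Abelian.Ext.comp_zero])
  obtain ⟨s, rfl⟩ := (Abelian.Ext.mk₀_bijective _ _).2 y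
  rw [Abelian.Ext.mk₀_comp_mk₀] at hy
  exact ⟨ShortComplex.Splitting.ofExactOfSection S hS.exact s ((Abelian.Ext.mk₀_bijective _ _).1 hy) hS.mono_f⟩

end Groth.Agent.SplitP

namespace Groth.Agent.SplitP

variable {K : Type u} [Field K]

theorem eq_genericPoint (x : CohB1.ProjSpace 0 K) :
    haveI := CurveLib.isIntegral_projSpace K 0
    x = genericPoint (CohB1.ProjSpace 0 K) := by
  haveI := CurveLib.isIntegral_projSpace K 0
  let P := CohB1.ProjSpace 0 K
  by_contra hne
  let A : TopologicalSpace.IrreducibleCloseds P :=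
    ⟨closure {x}, isIrreducible_singleton.closure, isClosed_closure⟩
  let B : TopologicalSpace.IrreducibleCloseds P :=
    ⟨Set.univ, IrreducibleSpace.isIrreducible_univ _, isClosed_univ⟩
  have hlt : A < B := lt_of_le_of_ne (fun _ _ => trivial) fun h => hne (by
    have h' : closure ({x} : Set P) = Set.univ := congrArg SetLike.coe h
    exact (show IsGenericPoint x (Set.univ : Set P) from h').eq (genericPoint_spec P))
  let p : LTSeries (TopologicalSpace.IrreducibleCloseds P) := (RelSeries.singleton _ A).snoc B hlt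
  have h1 := Order.LTSeries.length_le_krullDim p
  have h0 : topologicalKrullDim P = 0 := DimLib.PN.topologicalKrullDim_projSpace 0 K
  rw [topologicalKrullDim] at h0
  rw [h0] at h1
  simp [p] at h1
  exact absurd h1 (not_le.2 zero_lt_one)

attribute [local instance] Coherent.hasFiniteBiproducts in
theorem split_zero {r : ℕ} {E : (CohB1.ProjSpace 0 K).Modules} (hE : FlatMod.IsFinLocFreeOfRank r E) :
    Nonempty (E ≅ ∐ fun _ : Fin r => Twist.twistProjSpace 0 K 0) := by
  haveI := CurveLib.isIntegral_projSpace K 0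
  obtain ⟨U, hxU, ⟨e⟩⟩ := hE (genericPoint (CohB1.ProjSpace 0 K))
  have hU : U = ⊤ := eq_top_iff.2 fun y _ => eq_genericPoint y ▸ hxU
  subst hU
  obtain ⟨z⟩ := TwistLib.nonempty_twist_zero_iso (𝒜 := CohB1.polyGrading 0 K)
  let P := CohB1.ProjSpace 0 K
  let T := Scheme.Modules.restrictFunctor P.topIso.inv
  haveI : PreservesColimitsOfShape (Discrete (Fin r)) T := inferInstance
  let e' : E ≅ ∐ fun _ : Fin r => Twist.twistProjSpace 0 K 0 :=
    (Scheme.Modules.restrictFunctorId.app E).symm ≪≫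
      (Scheme.Modules.restrictFunctorCongr (show 𝟙 P = P.topIso.inv ≫ P.topIso.hom from P.topIso.inv_hom_id.symm)).app E ≪≫
      (Scheme.Modules.restrictFunctorComp P.topIso.inv P.topIso.hom).app E ≪≫ T.mapIso e ≪≫
      PreservesCoproduct.iso T _ ≪≫ Sigma.mapIso fun _ => Scheme.Modules.restrictUnitIso P.topIso.inv ≪≫ z.symm
  exact ⟨e'⟩

end Groth.Agent.SplitP
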