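import Groth.Agent.SplitP.Basic
import Groth.Agent.Coherent.FormalFunctions

/-!
# The splitting criterion on projective space over a field
-/

set_option autoImplicit false
set_option linter.style.haveILetI false
set_option backward.isDefEq.respectTransparency.types false

universe u

open CategoryTheory CategoryTheory.Limits AlgebraicGeometry Opposite TopologicalSpace
open Groth.Agent.Coherent Groth.Agent.EulerLib

namespace Groth.Agent.SplitP

/-- A retract and a decomposition of its complement give a decomposition. -/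
theorem exists_biproduct_iso_of_retract {C : Type*} [Category C] [Abelian C] [HasFiniteBiproducts C] {F : C} {r : ℕ}
    (G : Fin (r + 1) → C) (i : G 0 ⟶ F) (p : F ⟶ G 0) (h : i ≫ p = 𝟙 _)
    (e : kernel p ≅ ⨁ fun j : Fin r => G j.succ) : Nonempty (F ≅ ⨁ G) := by
  let ρ : F ⟶ kernel p := kernel.lift p (𝟙 F - p ≫ i) (by
    rw [Preadditive.sub_comp, Category.assoc, h, Category.comp_id, Category.id_comp, sub_self])
  have hρι : ρ ≫ kernel.ι p = 𝟙 F - p ≫ i := kernel.lift_ι _ _ _
  have hιρ : kernel.ι p ≫ ρ = 𝟙 _ := by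
    rw [← cancel_mono (kernel.ι p), Category.assoc, hρι, Preadditive.comp_sub, ← Category.assoc,
      kernel.condition, zero_comp, sub_zero, Category.comp_id, Category.id_comp]
  have hiρ : i ≫ ρ = 0 := by
    rw [← cancel_mono (kernel.ι p), Category.assoc, hρι, Preadditive.comp_sub, ← Category.assoc, h,
      Category.id_comp, Category.comp_id, sub_self, zero_comp]
  let π : ∀ j, F ⟶ G j := Fin.cases p (fun j => ρ ≫ e.hom ≫ biproduct.π (fun j : Fin r => G j.succ) j)
  let ι' : ∀ j, G j ⟶ F := Fin.cases i (fun j => biproduct.ι (fun j : Fin r => G j.succ) j ≫ e.inv ≫ kernel.ι p)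
  refine ⟨{ hom := biproduct.lift π, inv := biproduct.desc ι', hom_inv_id := ?_, inv_hom_id := ?_ }⟩
  · rw [biproduct.lift_desc, Fin.sum_univ_succ]
    show p ≫ i + ∑ j : Fin r, (ρ ≫ e.hom ≫ biproduct.π (fun j : Fin r => G j.succ) j) ≫
      biproduct.ι (fun j : Fin r => G j.succ) j ≫ e.inv ≫ kernel.ι p = 𝟙 F
    have hs : ∑ j : Fin r, (ρ ≫ e.hom ≫ biproduct.π (fun j : Fin r => G j.succ) j) ≫
        biproduct.ι (fun j : Fin r => G j.succ) j ≫ e.inv ≫ kernel.ι p = 𝟙 F - p ≫ i := by
      calc _ = ρ ≫ e.hom ≫ (∑ j : Fin r, biproduct.π (fun j : Fin r => G j.succ) j ≫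
              biproduct.ι (fun j : Fin r => G j.succ) j) ≫ e.inv ≫ kernel.ι p := by
            simp only [Preadditive.comp_sum, Preadditive.sum_comp, Category.assoc]
        _ = _ := by rw [biproduct.total, Category.id_comp, Iso.hom_inv_id_assoc, hρι]
    rw [hs, add_sub_cancel]
  · refine biproduct.hom_ext' _ _ fun a => biproduct.hom_ext _ _ fun b => ?_
    rw [Category.assoc, Category.assoc, biproduct.lift_π, biproduct.ι_desc_assoc, Category.comp_id, biproduct.ι_π]
    cases a using Fin.cases with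
    | zero =>
      cases b using Fin.cases with
      | zero => rw [dif_pos rfl]; exact h
      | succ b =>
        rw [dif_neg (Fin.succ_ne_zero b).symm]
        show i ≫ ρ ≫ _ = 0
        rw [← Category.assoc, hiρ, zero_comp]
    | succ a =>
      cases b using Fin.cases with
      | zero =>
        rw [dif_neg (Fin.succ_ne_zero a)]
        show (biproduct.ι (fun j : Fin r => G j.succ) a ≫ e.inv ≫ kernel.ι p) ≫ p = 0
        simp
      | succ b =>
        show (biproduct.ι (fun j : Fin r => G j.succ) a ≫ e.inv ≫ kernel.ι p) ≫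
          ρ ≫ e.hom ≫ biproduct.π (fun j : Fin r => G j.succ) b = _
        simp only [Category.assoc, reassoc_of% hιρ, Iso.inv_hom_id_assoc]
        rw [biproduct.ι_π]
        by_cases hab : a = b
        · subst hab; rw [dif_pos rfl, dif_pos rfl]
        · rw [dif_neg hab, dif_neg fun e => hab (Fin.succ_injective _ e)]

variable {K : Type u} [Field K] {d : ℕ}

local notation "ℙ" => CohB1.ProjSpace d K
local notation "O'(" n ")" => Twist.twistProjSpace d K n

theorem not_subsingleton_HH_top (j : ℕ) :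
    ¬ Subsingleton (Coh.HH ℙ (O'(-((d : ℤ) + 1 + j))) d) := fun h => by
  obtain ⟨e⟩ := nonempty_HH_top_twist (n := d) (R := K) j
  haveI : Subsingleton (MvPolynomial.homogeneousSubmodule (Fin (d + 1)) K j) := e.symm.toEquiv.subsingleton
  have := congrArg Subtype.val (Subsingleton.elim
    (⟨(MvPolynomial.X 0) ^ j, MvPolynomial.isHomogeneous_X_pow 0 j⟩ :
      MvPolynomial.homogeneousSubmodule (Fin (d + 1)) K j) 0)
  exact pow_ne_zero j (MvPolynomial.X_ne_zero 0) this

theorem not_subsingleton_HH_zero {m : ℤ} {F : (ℙ).Modules} (j : O'(-m) ⟶ F) (q : F ⟶ O'(-m)) (h : j ≫ q = 𝟙 _) :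
    ¬ Subsingleton (Coh.HH ℙ (tw F m) 0) := fun hs => by
  obtain ⟨e⟩ := nonempty_tw_twist (K := K) (d := d) (show -m + m = 0 by ring)
  obtain ⟨z⟩ : Nonempty (O'(0) ≅ Coh.structureModule ℙ) := TwistLib.nonempty_twist_zero_iso (𝒜 := CohB1.polyGrading d K)
  have h1 : Subsingleton (Coh.HH ℙ (Coh.structureModule ℙ) 0) :=
    subsingleton_HH_retract (e ≪≫ z).inv (e ≪≫ z).hom (e ≪≫ z).inv_hom_id 0
      (subsingleton_HH_tw_retract j q h m 0 hs)
  haveI : Subsingleton Γ(ℙ, ⊤) := (Coherent.Existence.hSec (Coh.structureModule ℙ)).symm.toEquiv.subsingleton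
  haveI := CurveLib.isIntegral_projSpace K d
  exact zero_ne_one (α := Γ(ℙ, ⊤)) (Subsingleton.elim _ _)

theorem finrank_lt_of_retract {F : (ℙ).Modules} (hF : Coh.IsCoh F) {m : ℤ}
    (i : O'(-m) ⟶ F) (p : F ⟶ O'(-m)) (h : i ≫ p = 𝟙 _) (N : ℤ) (hN : N - m ≤ -((d : ℤ) + 1)) :
    Module.finrank K (Coh.HH ℙ (tw (kernel p) N) d) < Module.finrank K (Coh.HH ℙ (tw F N) d) := by
  haveI : IsProper ((ℙ) ↘ Spec (CommRingCat.of K)) := isProper_projSpace_toSpec d K
  haveI := Coherent.finite_HH (A := K) (isCoh_tw hF N) d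
  let T := SerreDual.twistF (O'(N))
  let ρ : F ⟶ kernel p := kernel.lift p (𝟙 F - p ≫ i) (by
    rw [Preadditive.sub_comp, Category.assoc, h, Category.comp_id, Category.id_comp, sub_self])
  have hιρ : kernel.ι p ≫ ρ = 𝟙 _ := by
    rw [← cancel_mono (kernel.ι p), Category.assoc, kernel.lift_ι, Preadditive.comp_sub, ← Category.assoc,
      kernel.condition, zero_comp, sub_zero, Category.comp_id, Category.id_comp]
  have hleft : ∀ {A B : (ℙ).Modules} (a : A ⟶ B) (b : B ⟶ A), a ≫ b = 𝟙 A → ∀ x,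
      SerreDual.hmap K (T.map b) d (SerreDual.hmap K (T.map a) d x) = x := fun a b hab x => by
    rw [← LinearMap.comp_apply, ← SerreDual.hmap_comp, ← Functor.map_comp, hab, CategoryTheory.Functor.map_id,
      SerreDual.hmap_id]
    rfl
  let f := SerreDual.hmap K (T.map (kernel.ι p)) d
  have hinj : Function.Injective f := Function.LeftInverse.injective (hleft _ _ hιρ)
  have hne : LinearMap.range f ≠ ⊤ := fun htop => by
    obtain ⟨e⟩ := nonempty_tw_twist (K := K) (d := d) (show -m + N = N - m by ring)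
    refine not_subsingleton_HH_top (K := K) (d := d) (-(N - m) - ((d : ℤ) + 1)).toNat ?_
    rw [show -((d : ℤ) + 1 + (-(N - m) - ((d : ℤ) + 1)).toNat) = N - m by omega]
    refine subsingleton_HH_retract e.inv e.hom e.inv_hom_id d (subsingleton_of_forall_eq 0 fun x => ?_)
    obtain ⟨y, hy⟩ := LinearMap.range_eq_top.1 htop (SerreDual.hmap K (T.map i) d x)
    have h0 : SerreDual.hmap K (T.map p) d (f y) = 0 := by
      rw [← LinearMap.comp_apply, ← SerreDual.hmap_comp, ← Functor.map_comp, kernel.condition, Functor.map_zero,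
        SerreDual.hmap_zero]
      rfl
    rw [← hleft _ _ h x, ← hy, h0]
  calc Module.finrank K (Coh.HH ℙ (tw (kernel p) N) d) = Module.finrank K (LinearMap.range f) :=
        (LinearMap.finrank_range_of_inj hinj).symm
    _ < _ := Submodule.finrank_lt hne

attribute [local instance] hasFiniteBiproducts in
theorem exists_split (hd : 1 ≤ d) (n₀ : ℤ) : ∀ (c : ℕ) (F : (ℙ).Modules), Coh.IsCoh F →
    (∀ n ≤ n₀, Subsingleton (Coh.HH ℙ (tw F n) 0)) →
    (∀ (n : ℤ) (i : ℕ), 1 ≤ i → i < d → Subsingleton (Coh.HH ℙ (tw F n) i)) →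
    Module.finrank K (Coh.HH ℙ (tw F (n₀ - d)) d) ≤ c →
    ∃ (r : ℕ) (a : Fin r → ℤ), Nonempty (F ≅ ⨁ fun j => O'(a j)) := by
  intro c
  induction c using Nat.strong_induction_on with
  | _ c ih =>
  intro F hF hlow hmid hc
  by_cases h0 : IsZero F
  · refine ⟨0, Fin.elim0, ⟨h0.iso ?_⟩⟩
    rw [IsZero.iff_id_eq_zero]
    exact biproduct.hom_ext' _ _ fun j => j.elim0
  obtain ⟨m, htop, hne⟩ := exists_minimal hF hd hlow hmid h0
  obtain ⟨i, p, hip⟩ := exists_retract hF hmid htop hne
  have hm : n₀ < m := by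
    by_contra h
    exact not_subsingleton_HH_zero i p hip (hlow m (by omega))
  let ρ : F ⟶ kernel p := kernel.lift p (𝟙 F - p ≫ i) (by
    rw [Preadditive.sub_comp, Category.assoc, hip, Category.comp_id, Category.id_comp, sub_self])
  have hιρ : kernel.ι p ≫ ρ = 𝟙 _ := by
    rw [← cancel_mono (kernel.ι p), Category.assoc, kernel.lift_ι, Preadditive.comp_sub, ← Category.assoc,
      kernel.condition, zero_comp, sub_zero, Category.comp_id, Category.id_comp]
  haveI : IsLocallyNoetherian ℙ :=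
    haveI := isProper_projSpace_toSpec d K
    LocallyOfFiniteType.isLocallyNoetherian (CohB1.ProjSpace.toSpec d K)
  have hK : Coh.IsCoh (kernel p) := isCoh_kernel p hF (isQCoh_twistProjSpace (n := d) (R := K) _)
  have hlt := finrank_lt_of_retract hF i p hip (n₀ - d) (by omega)
  obtain ⟨r, a, ⟨e⟩⟩ := ih (Module.finrank K (Coh.HH ℙ (tw (kernel p) (n₀ - d)) d)) (by omega) (kernel p) hK
    (fun n hn => subsingleton_HH_tw_retract _ _ hιρ n 0 (hlow n hn))
    (fun n j h1 h2 => subsingleton_HH_tw_retract _ _ hιρ n j (hmid n j h1 h2)) le_rfl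
  exact ⟨r + 1, Fin.cons (-m) a,
    exists_biproduct_iso_of_retract (fun j => O'(Fin.cons (α := fun _ => ℤ) (-m) a j)) i p hip e⟩

end Groth.Agent.SplitP
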